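import Cfsg.Agent.ResidualThree.Basic
import Cfsg.Agent.ResidualThree.Lift.SL2
import Cfsg.Agent.Classical.SmallSimple
import Cfsg.Agent.S0497
import Cfsg.Agent.S1005
import Cfsg.Agent.S1006
import Mathlib.GroupTheory.Transfer

/-!
The groups with simple quotient of order 60, 168 or 360: centre and conjugacy.
-/

set_option autoImplicit false

namespace Cfsg.Agent.ResidualThree.Small

open Matrix Cfsg.Geo Cfsg.Agent.PrimeDim Cfsg.Agent.ResidualThree
open scoped MatrixGroups

/-- A central element of a group with abelian Sylow subgroup containing it, lying in the derived subgroup, is trivial. -/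
theorem eq_one_of_central {X : Type*} [Group X] [Finite X] {p : ℕ} [hp : Fact p.Prime] (S : Sylow p X)
    (hS : IsMulCommutative (S : Subgroup X)) {z : X} (hzS : z ∈ (S : Subgroup X))
    (hzc : z ∈ Subgroup.center X) (hz : z ∈ commutator X) : z = 1 := by
  letI : CommGroup ↥(S : Subgroup X) :=
    { (inferInstance : Group ↥(S : Subgroup X)) with mul_comm := hS.is_comm.comm }
  let φ : ↥(S : Subgroup X) →* ↥(S : Subgroup X) := MonoidHom.id _
  have h1 : MonoidHom.transfer φ z = 1 :=
    MonoidHom.mem_ker.mp (Abelianization.commutator_subset_ker (MonoidHom.transfer φ) hz)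
  have key : ∀ (k : ℕ) (g₀ : X), g₀⁻¹ * z ^ k * g₀ ∈ (S : Subgroup X) →
      g₀⁻¹ * z ^ k * g₀ = z ^ k := fun k g₀ _ => by
    rw [mul_assoc, ← Subgroup.mem_center_iff.mp (pow_mem hzc k) g₀, inv_mul_cancel_left]
  rw [MonoidHom.transfer_eq_pow φ z key] at h1
  have h2 : z ^ (S : Subgroup X).index = 1 := congrArg Subtype.val h1
  obtain ⟨k, hk⟩ := S.2 ⟨z, hzS⟩
  have h3 : z ^ p ^ k = 1 := by simpa using congrArg Subtype.val hk
  have hg : z ^ Nat.gcd (S : Subgroup X).index (p ^ k) = 1 := pow_gcd_eq_one.mpr ⟨h2, h3⟩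
  rwa [(((Nat.Prime.coprime_iff_not_dvd hp.out).mpr S.not_dvd_index).symm.pow_right k).gcd_eq_one,
    pow_one] at hg

/-- Conjugacy in the alternating group of degree five. -/
theorem alt_five_real : ∀ g : alternatingGroup (Fin 5), ∃ h : alternatingGroup (Fin 5), h * g * h⁻¹ = g⁻¹ := by
  decide +kernel

/-- Conjugacy in the alternating group of degree six. -/
theorem alt_six_real : ∀ g : alternatingGroup (Fin 6), ∃ h : alternatingGroup (Fin 6), h * g * h⁻¹ = g⁻¹ := by
  decide +kernel

/-- Orders in the alternating group of degree six. -/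
theorem alt_six_orders : ∀ g : alternatingGroup (Fin 6), g ^ 4 = 1 ∨ g ^ 3 = 1 ∨ g ^ 5 = 1 := by
  decide +kernel

/-- Conjugacy in the simple group of order 168. -/
theorem facts_168 {G : Type*} [Group G] [Finite G] [IsSimpleGroup G] (h : Nat.card G = 168) (g : G) :
    ((g ^ 4 = 1 ∨ g ^ 3 = 1) ∧ IsConj g g⁻¹) ∨ (g ^ 7 = 1 ∧ IsConj g (g * g) ∧ ¬ IsConj g g⁻¹) := by
  classical
  obtain ⟨hord, -, h2c⟩ := S1005.result h
  obtain ⟨-, h3c, -, h4c, h7n, h7⟩ := S1006.result h
  have hpw : ∀ k, orderOf g = k → g ^ k = 1 := fun k e => e ▸ pow_orderOf_eq_one g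
  rcases hord g with e | e | e | e | e
  · exact Or.inl ⟨Or.inl (by rw [orderOf_eq_one_iff.1 e, one_pow]), by rw [orderOf_eq_one_iff.1 e, inv_one]⟩
  · exact Or.inl ⟨Or.inl (by rw [show 4 = 2 * 2 from rfl, pow_mul, hpw 2 e, one_pow]),
      h2c g g⁻¹ e (by rw [orderOf_inv, e])⟩
  · exact Or.inl ⟨Or.inr (hpw 3 e), h3c g g⁻¹ e (by rw [orderOf_inv, e])⟩
  · exact Or.inl ⟨Or.inl (hpw 4 e), h4c g g⁻¹ e (by rw [orderOf_inv, e])⟩
  obtain ⟨hcl, hnr⟩ := h7 g e
  have hg7 := hpw 7 e
  refine Or.inr ⟨hg7, ?_, hnr⟩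
  have hsq : ¬ IsConj (g * g) g⁻¹ := by
    intro hc
    obtain ⟨a, ha⟩ := isConj_iff.1 hc
    have ha2 : a * (g * g * (g * g)) * a⁻¹ = g⁻¹ * g⁻¹ := by
      calc _ = (a * (g * g) * a⁻¹) * (a * (g * g) * a⁻¹) := by group
        _ = _ := by rw [ha]
    have h4 : IsConj (g * g * (g * g)) g := by
      refine (isConj_iff.2 ⟨a, ha2⟩).trans (isConj_iff.2 ⟨a, ?_⟩)
      have := congrArg (·⁻¹) ha
      simpa [mul_assoc] using this
    obtain ⟨b, hb⟩ := isConj_iff.1 h4
    have h8 : b * g * b⁻¹ = g * g := by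
      have e8 : g * g * (g * g) * (g * g * (g * g)) = g := by
        calc _ = g ^ 7 * g := by simp [pow_succ, mul_assoc]
          _ = g := by rw [hg7, one_mul]
      calc b * g * b⁻¹ = b * (g * g * (g * g) * (g * g * (g * g))) * b⁻¹ := by rw [e8]
        _ = (b * (g * g * (g * g)) * b⁻¹) * (b * (g * g * (g * g)) * b⁻¹) := by group
        _ = _ := by rw [hb]
    exact hnr ((isConj_iff.2 ⟨b, h8⟩).trans hc)
  by_contra hn
  have hcard : ∀ x : G, orderOf x = 7 → Nat.card {y : G // IsConj x y} = 24 := fun x hx => (h7 x hx).1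
  have e2 : orderOf (g * g) = 7 := by
    rw [← pow_two, orderOf_pow, e]; decide
  have e3 : orderOf g⁻¹ = 7 := by rw [orderOf_inv, e]
  let f : ({y : G // IsConj g y} ⊕ {y : G // IsConj (g * g) y}) ⊕ {y : G // IsConj g⁻¹ y} →
      {y : G // orderOf y = 7} := Sum.elim (Sum.elim
    (fun y => ⟨y, by rw [← e]; exact (orderOf_eq_of_conj y.2).symm⟩)
    (fun y => ⟨y, by rw [← e2]; exact (orderOf_eq_of_conj y.2).symm⟩))
    (fun y => ⟨y, by rw [← e3]; exact (orderOf_eq_of_conj y.2).symm⟩)
  have hinj : Function.Injective f := by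
    rintro ((⟨a, ha⟩ | ⟨a, ha⟩) | ⟨a, ha⟩) ((⟨b, hb⟩ | ⟨b, hb⟩) | ⟨b, hb⟩) hab <;>
      simp [f] at hab <;> subst hab
    · rfl
    · exact absurd (ha.trans hb.symm) hn
    · exact absurd (ha.trans hb.symm) hnr
    · exact absurd (hb.trans ha.symm) hn
    · rfl
    · exact absurd (ha.trans hb.symm) hsq
    · exact absurd (hb.trans ha.symm) hnr
    · exact absurd (hb.trans ha.symm) hsq
    · rfl
  have := Nat.card_le_card_of_injective f hinj
  rw [Nat.card_sum, Nat.card_sum, hcard g e, hcard _ e2, hcard _ e3, h7n] at this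
  omega
where
  orderOf_eq_of_conj {G : Type _} [Group G] {x y : G} (h : IsConj x y) : orderOf x = orderOf y := by
    obtain ⟨c, rfl⟩ := isConj_iff.1 h
    exact (orderOf_injective (MulAut.conj c).toMonoidHom (MulAut.conj c).injective x).symm

variable {F : Type*} [Field F] [Finite F] {P : Subgroup (GL (Fin 3) F)}

local notation "G3" => GL (Fin 3) F
local notation "Zc" => Subgroup.subgroupOf (scalars (Fin 3) F) P

theorem finite_sub (P : Subgroup G3) : Finite P :=
  Finite.of_injective (fun g : P => mat (g : G3)) fun a b e => Subtype.ext (Units.ext e)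

omit [Finite F] in
theorem perfect_top (hP : Core P) : commutator P = ⊤ := by
  refine Subgroup.map_injective P.subtype_injective ?_
  rw [commutator_def, Subgroup.map_commutator, ← MonoidHom.range_eq_map, P.range_subtype, hP.perfect]

theorem center_card (hP : Core P) : Nat.card Zc = 1 ∨ Nat.card Zc = 3 := by
  classical
  haveI := finite_sub P
  haveI : Fact (Nat.Prime 3) := ⟨Nat.prime_three⟩
  have hpow : IsPGroup 3 Zc := fun z => ⟨1, Subtype.ext (Subtype.ext (by
    simpa using hP.scalar_pow_three (z : P).2 z.2))⟩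
  obtain ⟨j, hj⟩ := IsPGroup.iff_card.1 hpow
  have hle : Nat.card Zc ≤ 3 := by
    refine le_trans ?_ ((Polynomial.card_nthRoots 3 (1 : F)))
    refine le_trans ?_ (Multiset.toFinset_card_le _)
    rw [← Nat.card_eq_finsetCard]
    refine Nat.card_le_card_of_injective (fun z => ⟨mat ((z : P) : G3) 0 0, ?_⟩) ?_
    · obtain ⟨c, hc⟩ := (mem_scalars_iff _).1 z.2
      rw [Multiset.mem_toFinset, Polynomial.mem_nthRoots (by norm_num)]
      have h3 := hP.scalar_cube (z : P).2 hc
      simpa [show mat ((z : P) : G3) = _ from hc] using h3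
    · intro a b hab
      obtain ⟨c, hc⟩ := (mem_scalars_iff _).1 a.2
      obtain ⟨d, hd⟩ := (mem_scalars_iff _).1 b.2
      have e : mat ((a : P) : G3) 0 0 = mat ((b : P) : G3) 0 0 := congrArg Subtype.val hab
      rw [show mat ((a : P) : G3) = _ from hc, show mat ((b : P) : G3) = _ from hd] at e
      refine Subtype.ext (Subtype.ext (Units.ext ?_))
      show mat ((a : P) : G3) = mat ((b : P) : G3)
      rw [show mat ((a : P) : G3) = _ from hc, show mat ((b : P) : G3) = _ from hd, show (c : F) = d by simpa using e]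
  rcases Nat.lt_or_ge j 2 with hj2 | hj2
  · interval_cases j
    · left; simpa using hj
    · right; simpa using hj
  · have := Nat.pow_le_pow_right (show 0 < 3 by norm_num) hj2
    omega

/-- The Sylow subgroups at three are non-abelian when the centre is non-trivial. -/
theorem sylow_three_nonab (hP : Core P) (hZ : Nat.card Zc ≠ 1) (S : Sylow 3 P) :
    Zc ≤ S ∧ ¬ IsMulCommutative (S : Subgroup P) := by
  haveI := finite_sub P
  haveI : Fact (Nat.Prime 3) := ⟨Nat.prime_three⟩
  have hle : ∀ T : Sylow 3 P, Zc ≤ T := fun T => by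
    have hc : Zc ≤ Subgroup.center P := le_of_eq hP.center_eq.symm
    have hpow : IsPGroup 3 Zc := fun z => ⟨1, Subtype.ext (Subtype.ext (by
      simpa using hP.scalar_pow_three (z : P).2 z.2))⟩
    haveI : (Zc).Normal := ⟨fun z hz g => by
      rw [Subgroup.mem_center_iff.1 (hc hz) g, mul_inv_cancel_right]; exact hz⟩
    exact le_sup_right.trans_eq (T.3 (T.2.to_sup_of_normal_right hpow) le_sup_left)
  refine ⟨hle S, fun hS => hZ ?_⟩
  rw [Subgroup.card_eq_one, Subgroup.eq_bot_iff_forall]
  intro z hz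
  exact eq_one_of_central S hS (hle S hz) ((hP.center_eq.symm.le) hz) (perfect_top hP ▸ Subgroup.mem_top z)

/-- With three-part of the quotient at most three the centre is trivial. -/
theorem center_trivial (hP : Core P) (h9 : ¬ 9 ∣ Nat.card (P ⧸ Zc)) : ∀ z : P, (z : G3) ∈ scalars (Fin 3) F → z = 1 := by
  haveI := finite_sub P
  haveI : Fact (Nat.Prime 3) := ⟨Nat.prime_three⟩
  have h1 : Nat.card Zc = 1 := by
    refine (center_card hP).resolve_right fun h3 => ?_
    obtain ⟨S⟩ : Nonempty (Sylow 3 P) := inferInstance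
    obtain ⟨-, hS⟩ := sylow_three_nonab hP (by rw [h3]; norm_num) S
    obtain ⟨k, hk⟩ := IsPGroup.iff_card.1 S.2
    have hk2 : k ≤ 2 := by
      by_contra hlt
      have hd : 3 ^ 3 ∣ Nat.card P := (pow_dvd_pow 3 (not_le.1 hlt)).trans (hk ▸ Subgroup.card_subgroup_dvd_card _)
      rw [Subgroup.card_eq_card_quotient_mul_card_subgroup Zc, h3] at hd
      exact h9 (Nat.dvd_of_mul_dvd_mul_right (by norm_num) hd)
    apply hS
    interval_cases k
    · haveI : Subsingleton (S : Subgroup P) := (Nat.card_eq_one_iff_unique.1 (by simpa using hk)).1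
      exact ⟨⟨fun a b => Subsingleton.elim _ _⟩⟩
    · haveI := isCyclic_of_prime_card (α := (S : Subgroup P)) (p := 3) (by simpa using hk)
      exact IsCyclic.isMulCommutative
    · exact IsPGroup.isMulCommutative_of_card_eq_prime_sq hk
  intro z hz
  exact Subgroup.eq_bot_iff_forall _ |>.1 (Subgroup.card_eq_one.1 h1) z hz

/-- In the cover with centre of order three, elements of order three in the quotient are conjugate to their multiples. -/
theorem conj_central (hP : Core P) (h360 : Nat.card (P ⧸ Zc) = 360) (hZ : Nat.card Zc = 3) {g : P}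
    (hg : g ^ 3 ∈ Zc) (hg1 : g ∉ Zc) : ∃ h : P, ∃ z ∈ Zc, z ≠ 1 ∧ h * g * h⁻¹ = g * z := by
  haveI := finite_sub P
  haveI : Fact (Nat.Prime 3) := ⟨Nat.prime_three⟩
  have hgp : IsPGroup 3 (Subgroup.zpowers g) := by
    have h9 : g ^ (3 ^ 2) = 1 := by
      rw [show 3 ^ 2 = 3 * 3 from rfl, pow_mul]
      exact Subtype.ext (hP.scalar_pow_three (g ^ 3).2 hg)
    rintro ⟨x, j, rfl⟩
    refine ⟨2, Subtype.ext ?_⟩
    show (g ^ j) ^ 3 ^ 2 = 1
    rw [← zpow_natCast, ← _root_.zpow_mul, mul_comm, _root_.zpow_mul, zpow_natCast, h9, _root_.one_zpow]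
  obtain ⟨S, hS⟩ := hgp.exists_le_sylow
  obtain ⟨hZS, hna⟩ := sylow_three_nonab hP (by rw [hZ]; norm_num) S
  have hScard : Nat.card S = 27 := by
    rw [S.card_eq_multiplicity, Subgroup.card_eq_card_quotient_mul_card_subgroup Zc, h360, hZ]
    rw [show 360 * 3 = 3 ^ 3 * 40 from rfl, Nat.factorization_mul (by norm_num) (by norm_num), Finsupp.add_apply,
      Nat.prime_three.factorization_pow, Finsupp.single_eq_same, Nat.factorization_eq_zero_of_not_dvd (by norm_num)]
    rfl
  set π := (QuotientGroup.mk' Zc).comp (S : Subgroup P).subtype with hπ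
  have hker : π.ker = (Zc).subgroupOf S := by
    ext x; simp [hπ, Subgroup.mem_subgroupOf, QuotientGroup.eq_one_iff]
  have hrange : Nat.card π.range = 9 := by
    have := Subgroup.card_eq_card_quotient_mul_card_subgroup π.ker
    rw [Nat.card_congr (QuotientGroup.quotientKerEquivRange π).toEquiv, hker, hScard,
      Nat.card_congr (Subgroup.subgroupOfEquivOfLe hZS).toEquiv, hZ] at this
    omega
  have hgS : g ∈ (S : Subgroup P) := hS (Subgroup.mem_zpowers g)
  obtain ⟨h, hh⟩ : ∃ h ∈ (S : Subgroup P), h * g ≠ g * h := by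
    by_contra hc
    push Not at hc
    refine hna ⟨⟨fun a b => ?_⟩⟩
    haveI : IsCyclic ((S : Subgroup P) ⧸ Subgroup.center (S : Subgroup P)) := by
      set C := Subgroup.center (S : Subgroup P)
      have hd : Nat.card C ∣ 3 ^ 3 := by rw [show 3 ^ 3 = 27 from rfl, ← hScard]; exact Subgroup.card_subgroup_dvd_card C
      obtain ⟨i, hi, hCi⟩ := (Nat.dvd_prime_pow Nat.prime_three).1 hd
      have hlt : 3 < Nat.card C := by
        have hzc : (Zc).subgroupOf S ≤ C := fun x hx => Subgroup.mem_center_iff.2 fun y => Subtype.ext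
          (Subgroup.mem_center_iff.1 (hP.center_eq.symm.le hx) _)
        have hgc : (⟨g, hgS⟩ : (S : Subgroup P)) ∈ C := Subgroup.mem_center_iff.2 fun y => Subtype.ext (hc y y.2)
        have h3 : Nat.card ((Zc).subgroupOf S) = 3 := by
          rw [Nat.card_congr (Subgroup.subgroupOfEquivOfLe hZS).toEquiv, hZ]
        have hne : Nat.card ((Zc).subgroupOf S) ≠ Nat.card C := fun e =>
          hg1 (show (⟨g, hgS⟩ : (S : Subgroup P)) ∈ (Zc).subgroupOf S from
            (Subgroup.eq_of_le_of_card_ge hzc e.ge).symm ▸ hgc)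
        have := Subgroup.card_le_of_le hzc
        omega
      have hi2 : 2 ≤ i := by
        by_contra hh
        interval_cases i <;> omega
      have hmul := Subgroup.card_eq_card_quotient_mul_card_subgroup C
      rw [hScard, hCi] at hmul
      interval_cases i
      · exact isCyclic_of_prime_card (p := 3) (Nat.eq_of_mul_eq_mul_right (by norm_num : 0 < 3 ^ 2) (hmul.symm.trans (by norm_num)))
      · haveI : Subsingleton ((S : Subgroup P) ⧸ C) := (Nat.card_eq_one_iff_unique.1 (by simpa using hmul.symm)).1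
        exact isCyclic_of_subsingleton
    exact commutative_of_cyclic_center_quotient (QuotientGroup.mk' (Subgroup.center (S : Subgroup P)))
      (by rw [QuotientGroup.ker_mk']) a b
  refine ⟨h, g⁻¹ * (h * g * h⁻¹), ?_, fun e => hh.2 ?_, by group⟩
  · have hc9 := IsPGroup.isMulCommutative_of_card_eq_prime_sq (p := 3) (G := π.range) (by rw [hrange]; rfl)
    have e := congrArg Subtype.val (hc9.is_comm.comm (π.rangeRestrict ⟨h, hh.1⟩) (π.rangeRestrict ⟨g, hgS⟩))
    have e' : (QuotientGroup.mk' Zc) h * (QuotientGroup.mk' Zc) g =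
        (QuotientGroup.mk' Zc) g * (QuotientGroup.mk' Zc) h := e
    rw [← QuotientGroup.eq_one_iff]
    show (QuotientGroup.mk' Zc) (g⁻¹ * (h * g * h⁻¹)) = 1
    rw [map_mul, map_mul, map_mul, map_inv, map_inv, e', mul_inv_cancel_right, inv_mul_cancel]
  · have : h * g * h⁻¹ = g := by
      have := inv_mul_eq_one.1 e
      exact this.symm
    exact mul_inv_eq_iff_eq_mul.1 this

end Cfsg.Agent.ResidualThree.Small
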