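import Cfsg.Agent.ResidualThree.Small.Fields
import Cfsg.Agent.ResidualThree.Small.Groups

/-!
Fields and forms of the groups with small simple quotient.
-/

set_option autoImplicit false

namespace Cfsg.Agent.ResidualThree.Small

open Matrix Cfsg.Geo Cfsg.Agent.PrimeDim Cfsg.Agent.ResidualThree
open scoped MatrixGroups

variable {F : Type*} [Field F] [Finite F] {P : Subgroup (GL (Fin 3) F)}

local notation "G3" => GL (Fin 3) F
local notation "M3" => Matrix (Fin 3) (Fin 3) F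
local notation "Zc" => Subgroup.subgroupOf (scalars (Fin 3) F) P

omit [Finite F] in
theorem trace_of_isConj {g h : P} (hc : IsConj g h) : (mat (h : G3)).trace = (mat (g : G3)).trace := by
  obtain ⟨c, rfl⟩ := isConj_iff.1 hc
  rw [Subgroup.coe_mul, Subgroup.coe_mul, InvMemClass.coe_inv, mat_mul, mat_mul, Matrix.trace_mul_comm,
    ← mul_assoc, mat_inv_mul, one_mul]

omit [Finite F] in
theorem trace_pow_frob {p : ℕ} [Fact p.Prime] [CharP F p] (g : G3) :
    (mat g).trace ^ p = (mat (g ^ p)).trace := by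
  rw [← trace_pow_char p (mat g)]
  congr 1

omit [Finite F] in
theorem coe_real {g : P} (hc : IsConj g g⁻¹) : (mat (g : G3)⁻¹).trace = (mat (g : G3)).trace := by
  rw [← InvMemClass.coe_inv]; exact trace_of_isConj hc

omit [Finite F] in
/-- The traces of real elements of order three or dividing four are rational. -/
theorem trace_small (hP : Core P) (h2 : (2 : F) ≠ 0) {g : P} (hg : g ^ 4 = 1 ∨ g ^ 3 = 1)
    (hr : (mat (g : G3)⁻¹).trace = (mat (g : G3)).trace) : ∃ k : ℤ, (mat (g : G3)).trace = k := by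
  by_cases hg1 : (g : G3) = 1
  · exact ⟨3, by rw [hg1, trace_one]; norm_num⟩
  have hd := hP.det_eq_one g.2
  rcases hg with h | h
  · by_cases hg2 : (g : G3) * g = 1
    · exact ⟨-1, by rw [trace_two h2 hd hg2 hg1]; norm_num⟩
    · exact ⟨1, by rw [trace_four h2 hd (congrArg Subtype.val h) hg2 hr]; norm_num⟩
  · exact ⟨0, by rw [trace_three hd (congrArg Subtype.val h) hg1 hr]; norm_num⟩

omit [Finite F] in
theorem intCast_pow_char (p : ℕ) [Fact p.Prime] [CharP F p] (k : ℤ) : ((k : F)) ^ p = k := by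
  haveI : ExpChar F p := ExpChar.prime Fact.out
  rw [← frobenius_def, map_intCast]

omit [Finite F] in
theorem two_ne {p : ℕ} [Fact p.Prime] [CharP F p] (hp : p ≠ 2) : (2 : F) ≠ 0 :=
  Ring.two_ne_zero (by rw [ringChar.eq F p]; exact hp)

omit [Finite F] in
theorem three_pow (p : ℕ) [Fact p.Prime] [CharP F p] {t : F} (h : t ^ p = 3) : t = 3 := by
  haveI : ExpChar F p := ExpChar.prime Fact.out
  apply frobenius_inj F p
  rw [frobenius_def, frobenius_def, h]
  exact_mod_cast (intCast_pow_char (F := F) p 3).symm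

omit [Finite F] in
theorem pow_eq_pow_mod' {g : P} {m : ℕ} (hg : g ^ m = 1) (p : ℕ) : g ^ p = g ^ (p % m) := by
  conv_lhs => rw [← Nat.div_add_mod p m, pow_add, pow_mul, hg, one_pow, one_mul]

omit [Finite F] in
theorem trivial_equiv (hZ : ∀ z : P, (z : G3) ∈ scalars (Fin 3) F → z = 1) : Nonempty (P ≃* P ⧸ Zc) := by
  have hbot : (Zc) = ⊥ := (Subgroup.eq_bot_iff_forall _).2 fun g hg => hZ g hg
  exact ⟨((QuotientGroup.quotientMulEquivOfEq hbot).trans QuotientGroup.quotientBot).symm⟩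

/-- A group with quotient of order sixty fixes a symmetric form. -/
theorem sixty_orth (hP : Core P) (h60 : Nat.card (P ⧸ Zc) = 60) :
    ∃ G : M3, G.det ≠ 0 ∧ Gᵀ = G ∧ Fixes (RingEquiv.refl F) P G := by
  haveI := finite_sub P
  obtain ⟨e⟩ := trivial_equiv (center_trivial hP (by rw [h60]; norm_num))
  haveI := hP.simple
  obtain ⟨f⟩ := Classical.Small.simple_sixty h60
  refine orth_of_real hP fun g hg => ?_
  obtain ⟨h, hh⟩ := alt_five_real (f (e ⟨g, hg⟩))
  have hc : IsConj (⟨g, hg⟩ : P) ⟨g, hg⟩⁻¹ := isConj_iff.2 ⟨(e.trans f).symm h, (e.trans f).injective (by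
    simpa [MulEquiv.trans_apply] using hh)⟩
  exact coe_real (g := ⟨g, hg⟩) hc

variable {p : ℕ} [Fact p.Prime] [CharP F p]

/-- The fields and forms for quotient of order 168. -/
theorem case_168 (hP : Core P) (hmin : ∀ F₀ : Subfield F, F₀ ≠ ⊤ → ¬ RealisableOver F₀ (matrixSet P))
    (hp : p ≠ 2) (h168 : Nat.card (P ⧸ Zc) = 168) :
    (∃ G : M3, G.det ≠ 0 ∧ Gᵀ = G ∧ Fixes (RingEquiv.refl F) P G) ∨
    (Nat.card F = p ∧ (p % 7 = 1 ∨ p % 7 = 2 ∨ p % 7 = 4)) ∨
    (Nat.card F = p ^ 2 ∧ (p % 7 = 3 ∨ p % 7 = 5 ∨ p % 7 = 6) ∧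
      ∀ g ∈ P, (mat g⁻¹).trace = (mat g).trace ^ p) := by
  haveI := finite_sub P
  obtain ⟨e⟩ := trivial_equiv (center_trivial hP (by rw [h168]; norm_num))
  haveI := hP.simple
  haveI : Nontrivial P := e.toEquiv.nontrivial
  haveI : IsSimpleGroup P := e.isSimpleGroup
  have hc : Nat.card P = 168 := (Nat.card_congr e.toEquiv).trans h168
  have h2 := two_ne (F := F) hp
  have hp7 : p % 7 = 0 → p = 7 := fun e => ((Nat.prime_dvd_prime_iff_eq (by norm_num) (Fact.out : p.Prime)).1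
    (Nat.dvd_of_mod_eq_zero e)).symm
  -- the action of Frobenius on the traces
  have key : ∀ g : P, ((mat (g : G3)⁻¹).trace = (mat (g : G3)).trace ∧ (mat (g : G3)).trace ^ p = (mat (g : G3)).trace) ∨
      ((p % 7 = 1 ∨ p % 7 = 2 ∨ p % 7 = 4) ∧ (mat (g : G3)).trace ^ p = (mat (g : G3)).trace) ∨
      ((p % 7 = 3 ∨ p % 7 = 5 ∨ p % 7 = 6) ∧ (mat (g : G3)).trace ^ p = (mat (g : G3)⁻¹).trace) := by
    intro g
    rcases facts_168 hc g with ⟨hg, hr⟩ | ⟨hg7, hsq, -⟩
    · obtain ⟨k, hk⟩ := trace_small hP h2 hg (coe_real hr)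
      exact Or.inl ⟨coe_real hr, by rw [hk, intCast_pow_char]⟩
    obtain ⟨a, ha⟩ := isConj_iff.1 hsq
    have h4 : IsConj g (g ^ 4) := hsq.trans (isConj_iff.2 ⟨a, by
      calc a * (g * g) * a⁻¹ = (a * g * a⁻¹) * (a * g * a⁻¹) := by group
        _ = g ^ 4 := by rw [ha]; simp [pow_succ, mul_assoc]⟩)
    have h2' : IsConj g (g ^ 2) := by rwa [pow_two]
    have hinv : g⁻¹ = g ^ 6 := inv_eq_of_mul_eq_one_right (by rw [← pow_succ', hg7])
    have hconj : ∀ j, IsConj g (g ^ j) → IsConj g⁻¹ (g ^ j)⁻¹ := fun j hj => by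
      obtain ⟨b, hb⟩ := isConj_iff.1 hj
      exact isConj_iff.2 ⟨b, by rw [← hb]; group⟩
    have hpow : (mat (g : G3)).trace ^ p = (mat ((g ^ (p % 7) : P) : G3)).trace := by
      rw [trace_pow_frob, ← pow_eq_pow_mod' hg7 p, SubgroupClass.coe_pow]
    have hpos : ∀ j, IsConj g (g ^ j) → (mat ((g ^ j : P) : G3)).trace = (mat (g : G3)).trace :=
      fun j hj => trace_of_isConj hj
    have hneg : ∀ i j, IsConj g (g ^ j) → g ^ i = (g ^ j)⁻¹ →
        (mat ((g ^ i : P) : G3)).trace = (mat (g : G3)⁻¹).trace := fun i j hj hij => by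
      rw [hij, trace_of_isConj (hconj j hj)]; rfl
    have h7 : ∀ i j, i + j = 7 → g ^ i = (g ^ j)⁻¹ := fun i j hij =>
      eq_inv_of_mul_eq_one_left (by rw [← pow_add, hij, hg7])
    have hlt : p % 7 < 7 := Nat.mod_lt _ (by norm_num)
    interval_cases hm : p % 7
    · left
      obtain rfl := hp7 rfl
      rw [pow_zero, OneMemClass.coe_one, trace_one] at hpow
      have hs : (mat (g : G3)⁻¹).trace = 3 := three_pow 7 (by
        rw [trace_pow_frob, inv_pow, ← SubgroupClass.coe_pow, hg7, OneMemClass.coe_one, inv_one, trace_one])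
      have ht := three_pow 7 hpow
      exact ⟨by rw [hs, ht], by rw [hpow, ht]⟩
    · right; left; exact ⟨by omega, by rw [hpow, pow_one]⟩
    · right; left; exact ⟨by omega, by rw [hpow, hpos 2 h2']⟩
    · right; right; exact ⟨by omega, by rw [hpow, hneg 3 4 h4 (h7 3 4 rfl)]⟩
    · right; left; exact ⟨by omega, by rw [hpow, hpos 4 h4]⟩
    · right; right; exact ⟨by omega, by rw [hpow, hneg 5 2 h2' (h7 5 2 rfl)]⟩
    · right; right; exact ⟨by omega, by rw [hpow, ← hinv]; rfl⟩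
  by_cases hreal : ∀ g ∈ P, (mat g⁻¹).trace = (mat g).trace
  · exact Or.inl (orth_of_real hP hreal)
  right
  push Not at hreal
  obtain ⟨g₀, hg₀, hne⟩ := hreal
  by_cases hres : p % 7 = 1 ∨ p % 7 = 2 ∨ p % 7 = 4
  · left
    obtain ⟨m, h1, h1', hm⟩ := card_of_traces hP hmin hp one_pos fun g hg => by
      rw [pow_one]
      rcases key ⟨g, hg⟩ with ⟨-, h⟩ | ⟨-, h⟩ | ⟨h, -⟩
      · exact h
      · exact h
      · omega
    exact ⟨by rw [hm, show m = 1 by omega, pow_one], hres⟩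
  right
  have htw : ∀ g ∈ P, (mat g⁻¹).trace = (mat g).trace ^ p := fun g hg => by
    rcases key ⟨g, hg⟩ with ⟨h, h'⟩ | ⟨h, -⟩ | ⟨-, h⟩
    · rw [h', h]
    · exact absurd h hres
    · exact h.symm
  have hres' : p % 7 = 3 ∨ p % 7 = 5 ∨ p % 7 = 6 := by
    rcases key ⟨g₀, hg₀⟩ with ⟨h, -⟩ | ⟨h, -⟩ | ⟨h, -⟩
    · exact absurd h hne
    · exact absurd h hres
    · exact h
  refine ⟨?_, hres', htw⟩
  obtain ⟨m, h1, h2', hm⟩ := card_of_traces hP hmin hp (k := 2) two_pos fun g hg => by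
    rw [pow_two, pow_mul, ← htw g hg, ← htw g⁻¹ (inv_mem hg), inv_inv]
  rcases (show m = 1 ∨ m = 2 by omega) with rfl | rfl
  · exfalso
    apply hne
    haveI : Fintype F := Fintype.ofFinite F
    have := FiniteField.pow_card (mat g₀).trace
    rw [← Nat.card_eq_fintype_card, hm, pow_one] at this
    rw [htw g₀ hg₀, this]
  · exact hm

omit [Finite F] [Fact p.Prime] [CharP F p] in
theorem scalar_trace {g : G3} {μ : F} {z : G3} (hz : mat z = μ • (1 : M3)) :
    (mat (g * z)).trace = μ * (mat g).trace := by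
  rw [mat_mul, hz, Matrix.mul_smul, mul_one, Matrix.trace_smul, smul_eq_mul]

omit [Finite F] [Fact p.Prime] [CharP F p] in
theorem pow_cube_mod {μ : F} (h : μ ^ 3 = 1) (m : ℕ) : μ ^ m = μ ^ (m % 3) := by
  conv_lhs => rw [← Nat.div_add_mod m 3, pow_add, pow_mul, h, one_pow, one_mul]

/-- The fields and forms for quotient of order 360. -/
theorem case_360 (hP : Core P) (hmin : ∀ F₀ : Subfield F, F₀ ≠ ⊤ → ¬ RealisableOver F₀ (matrixSet P))
    (hp : p ≠ 2) (h360 : Nat.card (P ⧸ Zc) = 360) :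
    (∃ G : M3, G.det ≠ 0 ∧ Gᵀ = G ∧ Fixes (RingEquiv.refl F) P G) ∨
    (Nat.card F = p ∧ (p % 15 = 1 ∨ p % 15 = 4)) ∨
    (Nat.card F = p ^ 2 ∧ p ≠ 3 ∧
      (((p % 5 = 2 ∨ p % 5 = 3) ∧ ∃ g ∈ P, (mat g⁻¹).trace ≠ (mat g).trace ^ p) ∨
       ((p % 15 = 11 ∨ p % 15 = 14 ∨ p = 5) ∧ ∀ g ∈ P, (mat g⁻¹).trace = (mat g).trace ^ p))) := by
  classical
  haveI := finite_sub P
  haveI := hP.simple
  obtain ⟨f⟩ := S0497.result h360
  set π : P →* P ⧸ Zc := QuotientGroup.mk' Zc with hπ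
  have hπ1 : ∀ x : P, π x = 1 ↔ x ∈ Zc := fun x => QuotientGroup.eq_one_iff x
  -- realness in the quotient
  have hrealQ : ∀ x : P, ∃ h : P, ∃ z ∈ Zc, h * x * h⁻¹ = x⁻¹ * z := fun x => by
    obtain ⟨a, ha⟩ := alt_six_real (f (π x))
    obtain ⟨h, hh⟩ := QuotientGroup.mk'_surjective Zc (f.symm a)
    refine ⟨h, x * (h * x * h⁻¹), (hπ1 _).1 ?_, by group⟩
    apply f.injective
    rw [hπ] at ha ⊢
    simp only [map_mul, map_inv, map_one, hh, MulEquiv.apply_symm_apply, ha, mul_inv_cancel]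
  rcases center_card hP with hZ | hZ
  · refine Or.inl (orth_of_real hP fun g hg => ?_)
    obtain ⟨h, z, hz, he⟩ := hrealQ ⟨g, hg⟩
    rw [Subgroup.card_eq_one.1 hZ, Subgroup.mem_bot] at hz
    rw [hz, mul_one] at he
    exact coe_real (g := ⟨g, hg⟩) (isConj_iff.2 ⟨h, he⟩)
  right
  have h2 := two_ne (F := F) hp
  haveI : Fact (Nat.Prime 3) := ⟨Nat.prime_three⟩
  -- a non-trivial cube root of unity
  obtain ⟨ω, hω, hω1, hωs⟩ : ∃ ω : F, ω ^ 3 = 1 ∧ ω ≠ 1 ∧ ∃ s : P, s ∈ Zc ∧ mat (s : G3) = ω • (1 : M3) := by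
    haveI : Nontrivial Zc := Finite.one_lt_card_iff_nontrivial.1 (by omega)
    obtain ⟨s, hs⟩ := exists_ne (1 : Zc)
    obtain ⟨c, hc⟩ := (mem_scalars_iff _).1 s.2
    refine ⟨c, hP.scalar_cube (s : P).2 hc, fun e => hs (Subtype.ext (Subtype.ext (Units.ext ?_))), s, s.2, hc⟩
    show mat ((s : P) : G3) = 1
    rw [show mat ((s : P) : G3) = _ from hc, e, one_smul]
  have hp3 : p ≠ 3 := by
    rintro rfl
    have : (ω - 1) ^ 3 = 0 := by rw [sub_pow_char, hω, one_pow, sub_self]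
    exact hω1 (sub_eq_zero.1 ((pow_eq_zero_iff three_ne_zero).1 this))
  -- every element
  have hcases : ∀ g : P, ((mat (g : G3)).trace = 0 ∧ (mat (g : G3)⁻¹).trace = 0) ∨
      ∃ g' : P, ∃ μ : F, μ ^ 3 = 1 ∧ (g' ^ 4 = 1 ∨ g' ^ 5 = 1) ∧
        (mat (g' : G3)⁻¹).trace = (mat (g' : G3)).trace ∧
        (mat (g : G3)).trace = μ * (mat (g' : G3)).trace ∧ (mat (g : G3)⁻¹).trace = μ⁻¹ * (mat (g' : G3)).trace := by
    intro g
    have hz3 : ∀ z ∈ Zc, z ^ 3 = 1 := fun z hz => Subtype.ext (hP.scalar_pow_three z.2 hz)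
    have hzero : ∀ x : P, x ^ 3 ∈ Zc → x ∉ Zc → (mat (x : G3)).trace = 0 := by
      intro x hx hx1
      obtain ⟨h, z, hz, hz1, he⟩ := conj_central hP h360 hZ hx hx1
      obtain ⟨c, hc⟩ := (mem_scalars_iff _).1 hz
      have h1 := trace_of_isConj (isConj_iff.2 ⟨h, he⟩ : IsConj x (x * z))
      rw [Subgroup.coe_mul, scalar_trace (show mat (z : G3) = _ from hc)] at h1
      have h2 : ((c : F) - 1) * (mat (x : G3)).trace = 0 := by linear_combination h1
      refine (mul_eq_zero.1 h2).resolve_left fun e => hz1 (Subtype.ext (Units.ext ?_))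
      show mat (z : G3) = 1
      rw [show mat (z : G3) = _ from hc, sub_eq_zero.1 e, one_smul]
    by_cases hc3 : g ^ 3 ∈ Zc ∧ g ∉ Zc
    · refine Or.inl ⟨hzero g hc3.1 hc3.2, ?_⟩
      exact hzero g⁻¹ (by rw [inv_pow]; exact inv_mem hc3.1) (fun h => hc3.2 (by simpa using inv_mem h))
    right
    obtain ⟨k, j, hk, hkj, hgk⟩ : ∃ k j : ℕ, (k = 4 ∨ k = 5) ∧ (1 + j * k) % 3 = 0 ∧ g ^ k ∈ Zc := by
      have h5 : ∀ x, f (π g) ^ x = 1 → g ^ x ∈ Zc := fun x hx => (hπ1 _).1 (f.injective (by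
        rw [map_pow, map_pow, hx, map_one]))
      rcases alt_six_orders (f (π g)) with h | h | h
      · exact ⟨4, 2, Or.inl rfl, rfl, h5 4 h⟩
      · have hg : g ∈ Zc := by
          by_contra hgn
          exact hc3 ⟨h5 3 h, hgn⟩
        exact ⟨4, 2, Or.inl rfl, rfl, pow_mem hg 4⟩
      · exact ⟨5, 1, Or.inr rfl, rfl, h5 5 h⟩
    set z := g ^ k with hzdef
    have hcomm : ∀ x : P, x * z = z * x := fun x => Subgroup.mem_center_iff.1 (hP.center_eq.symm.le hgk) x
    set g' := g * z ^ j with hg'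
    have hg'k : g' ^ k = 1 := by
      rw [hg', (show Commute g (z ^ j) from (show Commute g z from hcomm g).pow_right j).mul_pow, ← hzdef,
        ← pow_mul, ← pow_succ', show j * k + 1 = 3 * ((1 + j * k) / 3) by omega, pow_mul, hz3 z hgk, one_pow]
    obtain ⟨c, hc⟩ := (mem_scalars_iff _).1 (inv_mem (pow_mem hgk j) : (z ^ j)⁻¹ ∈ Zc)
    refine ⟨g', c, hP.scalar_cube ((z ^ j)⁻¹ : P).2 hc, ?_, ?_, ?_, ?_⟩
    · rcases hk with rfl | rfl
      · exact Or.inl hg'k
      · exact Or.inr hg'k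
    · obtain ⟨h, w, hw, he⟩ := hrealQ g'
      have hw1 : w = 1 := by
        have h1 : (h * g' * h⁻¹) ^ k = 1 := by rw [conj_pow, hg'k, mul_one, mul_inv_cancel]
        rw [he, (show Commute g'⁻¹ w from Subgroup.mem_center_iff.1 (hP.center_eq.symm.le hw) _).mul_pow, inv_pow,
          hg'k, inv_one, one_mul] at h1
        have h3 := hz3 w hw
        rcases hk with rfl | rfl
        · rwa [pow_succ, h3, one_mul] at h1
        · rw [show 5 = 3 + 2 from rfl, pow_add, h3, one_mul] at h1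
          rwa [pow_succ, h1, one_mul] at h3
      rw [hw1, mul_one] at he
      exact coe_real (isConj_iff.2 ⟨h, he⟩)
    · conv_lhs => rw [show g = g' * (z ^ j)⁻¹ by rw [hg', mul_inv_cancel_right]]
      rw [Subgroup.coe_mul, scalar_trace (show mat (((z ^ j)⁻¹ : P) : G3) = _ from hc)]
    · have hr : (mat (g' : G3)⁻¹).trace = (mat (g' : G3)).trace := by
        obtain ⟨h, w, hw, he⟩ := hrealQ g'
        have hw1 : w = 1 := by
          have h1 : (h * g' * h⁻¹) ^ k = 1 := by rw [conj_pow, hg'k, mul_one, mul_inv_cancel]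
          rw [he, (show Commute g'⁻¹ w from Subgroup.mem_center_iff.1 (hP.center_eq.symm.le hw) _).mul_pow,
            inv_pow, hg'k, inv_one, one_mul] at h1
          have h3 := hz3 w hw
          rcases hk with rfl | rfl
          · rwa [pow_succ, h3, one_mul] at h1
          · rw [show 5 = 3 + 2 from rfl, pow_add, h3, one_mul] at h1
            rwa [pow_succ, h1, one_mul] at h3
        rw [hw1, mul_one] at he
        exact coe_real (isConj_iff.2 ⟨h, he⟩)
      have hci : mat ((z ^ j : P) : G3) = (c : F)⁻¹ • (1 : M3) := by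
        have hcm : mat (((z ^ j : P) : G3))⁻¹ = (c : F) • (1 : M3) := hc
        calc mat ((z ^ j : P) : G3) = mat ((z ^ j : P) : G3) * ((c : F)⁻¹ • mat (((z ^ j : P) : G3))⁻¹) := by
              rw [hcm, smul_smul, inv_mul_cancel₀ c.ne_zero, one_smul, mul_one]
          _ = _ := by rw [Matrix.mul_smul, mat_mul_inv]
      conv_lhs => rw [show g = (z ^ j)⁻¹ * g' by
        rw [hg', Subgroup.mem_center_iff.1 (hP.center_eq.symm.le (pow_mem hgk j)) g, ← mul_assoc, inv_mul_cancel,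
          one_mul]]
      rw [Subgroup.coe_mul, InvMemClass.coe_inv, _root_.mul_inv_rev, inv_inv, scalar_trace hci, hr]
  -- an element of order five
  obtain ⟨g₅, hg5, hg51, hr5⟩ : ∃ x : P, x ^ 5 = 1 ∧ x ≠ 1 ∧ (mat (x : G3)⁻¹).trace = (mat (x : G3)).trace := by
    haveI : Fact (Nat.Prime 5) := ⟨by norm_num⟩
    obtain ⟨x, hx⟩ := exists_prime_orderOf_dvd_card' (G := P) 5 (by
      rw [Subgroup.card_eq_card_quotient_mul_card_subgroup Zc, h360, hZ]; norm_num)
    have hx5 : x ^ 5 = 1 := hx ▸ pow_orderOf_eq_one x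
    refine ⟨x, hx5, fun e => by simp [e] at hx, ?_⟩
    obtain ⟨h, w, hw, he⟩ := hrealQ x
    have h3 : w ^ 3 = 1 := Subtype.ext (hP.scalar_pow_three w.2 hw)
    have h1 : (h * x * h⁻¹) ^ 5 = 1 := by rw [conj_pow, hx5, mul_one, mul_inv_cancel]
    rw [he, (show Commute x⁻¹ w from Subgroup.mem_center_iff.1 (hP.center_eq.symm.le hw) _).mul_pow, inv_pow, hx5,
      inv_one, one_mul, show 5 = 3 + 2 from rfl, pow_add, h3, one_mul] at h1
    have hw1 : w = 1 := by rwa [pow_succ, h1, one_mul] at h3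
    rw [hw1, mul_one] at he
    exact coe_real (isConj_iff.2 ⟨h, he⟩)
  have hp5z : p % 5 = 0 → p = 5 := fun e => ((Nat.prime_dvd_prime_iff_eq (by norm_num) (Fact.out : p.Prime)).1
    (Nat.dvd_of_mod_eq_zero e)).symm
  have hp3z : p % 3 ≠ 0 := fun e => hp3 ((Nat.prime_dvd_prime_iff_eq Nat.prime_three (Fact.out : p.Prime)).1
    (Nat.dvd_of_mod_eq_zero e)).symm
  -- Frobenius on the rational part
  have hfour : ∀ x : P, x ^ 4 = 1 → (mat (x : G3)⁻¹).trace = (mat (x : G3)).trace →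
      (mat (x : G3)).trace ^ p = (mat (x : G3)).trace := fun x h hr => by
    obtain ⟨k, hk⟩ := trace_small hP h2 (Or.inl h) hr
    rw [hk, intCast_pow_char]
  have hpow5 : ∀ (x : P), x ^ 5 = 1 → ∀ m, (mat ((x ^ m : P) : G3)).trace = (mat ((x ^ (m % 5) : P) : G3)).trace :=
    fun x h m => by rw [pow_eq_pow_mod' h m]
  have hfive : ∀ x : P, x ^ 5 = 1 → (mat (x : G3)⁻¹).trace = (mat (x : G3)).trace →
      ((p % 5 ≠ 2 ∧ p % 5 ≠ 3) → (mat (x : G3)).trace ^ p = (mat (x : G3)).trace) ∧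
      ((mat (x : G3)).trace ^ p ^ 2 = (mat (x : G3)).trace) ∧
      (p % 5 = 2 ∨ p % 5 = 3 → (mat (x : G3)).trace ^ p = (mat ((x : G3) * (x : G3))).trace) := by
    intro x h hr
    have hf : ∀ m, (mat ((x ^ m : P) : G3)).trace ^ p = (mat ((x ^ (m * p % 5) : P) : G3)).trace := fun m => by
      rw [trace_pow_frob, ← hpow5 x h, pow_mul, SubgroupClass.coe_pow (x ^ m)]
    have h4 : (mat ((x ^ 4 : P) : G3)).trace = (mat (x : G3)).trace := by
      rw [show x ^ 4 = x⁻¹ from eq_inv_of_mul_eq_one_left (by rw [← pow_succ, h]), InvMemClass.coe_inv, hr]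
    have h1 := hf 1
    rw [pow_one, one_mul] at h1
    have hlt : p % 5 < 5 := Nat.mod_lt _ (by norm_num)
    by_cases h0 : p % 5 = 0
    · obtain rfl := hp5z h0
      rw [Nat.mod_self, pow_zero, OneMemClass.coe_one, trace_one] at h1
      have ht := three_pow 5 h1
      exact ⟨fun _ => by rw [h1, ht], by rw [pow_two, pow_mul, h1, ← ht, h1, ht], fun hh => by omega⟩
    refine ⟨fun ⟨a, b⟩ => ?_, ?_, fun hh => ?_⟩
    · rcases (show p % 5 = 1 ∨ p % 5 = 4 by omega) with e | e <;> rw [e] at h1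
      · rwa [pow_one] at h1
      · rwa [h4] at h1
    · have h2' := hf (p % 5)
      rw [← h1] at h2'
      rw [pow_two, pow_mul, h2', show p % 5 * p % 5 = (p % 5 * (p % 5)) % 5 by simp [Nat.mul_mod]]
      interval_cases p % 5
      · omega
      · simp
      · exact h4
      · exact h4
      · simp
    · rw [h1, ← Subgroup.coe_mul]
      rcases hh with e | e <;> rw [e]
      · rw [pow_two]
      · have hx3 : x ^ 3 = (x * x)⁻¹ := eq_inv_of_mul_eq_one_left (by rw [← pow_two, ← pow_add, h])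
        rw [hx3, InvMemClass.coe_inv, Subgroup.coe_mul, trace_sq (hP.det_eq_one x.2), _root_.mul_inv_rev]
        have hd : (mat (x : G3)⁻¹).det = 1 := by rw [← InvMemClass.coe_inv]; exact hP.det_eq_one (x⁻¹ : P).2
        rw [trace_sq hd, inv_inv, hr]
  have hμ : ∀ μ : F, μ ^ 3 = 1 → (p % 3 = 1 → μ ^ p = μ) ∧ (p % 3 = 2 → μ ^ p = μ⁻¹) ∧ μ ^ p ^ 2 = μ := by
    intro μ h
    refine ⟨fun e => by rw [pow_cube_mod h, e, pow_one], fun e => ?_, ?_⟩
    · rw [pow_cube_mod h, e]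
      exact eq_inv_of_mul_eq_one_left (by rw [← pow_succ, h])
    · rw [pow_cube_mod h, Nat.pow_mod]
      rcases (show p % 3 = 1 ∨ p % 3 = 2 by omega) with e | e <;> simp [e]
  have hsq : ∀ g ∈ P, (mat g).trace ^ p ^ 2 = (mat g).trace := by
    intro g hg
    rcases hcases ⟨g, hg⟩ with ⟨h, -⟩ | ⟨g', μ, h3, ho, hr, ht, -⟩
    · rw [show (mat g).trace = 0 from h, zero_pow (pow_ne_zero _ (Fact.out : p.Prime).ne_zero)]
    · rw [show (mat g).trace = _ from ht, mul_pow, (hμ μ h3).2.2]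
      congr 1
      rcases ho with h | h
      · rw [pow_two, pow_mul, hfour g' h hr, hfour g' h hr]
      · exact (hfive g' h hr).2.1
  obtain ⟨m, hm1, hm2, hm⟩ := card_of_traces hP hmin hp (k := 2) two_pos hsq
  haveI : Fintype F := Fintype.ofFinite F
  have hcardp : m = 1 → ∀ a : F, a ^ p = a := fun e a => by
    have := FiniteField.pow_card a
    rwa [← Nat.card_eq_fintype_card, hm, e, pow_one] at this
  by_cases h23 : p % 5 = 2 ∨ p % 5 = 3
  · have h5F : (5 : F) ≠ 0 := fun e => by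
      have := (Nat.prime_dvd_prime_iff_eq Fact.out (by norm_num : Nat.Prime 5)).1
        ((CharP.cast_eq_zero_iff F p 5).1 (by exact_mod_cast e))
      omega
    have hne : (mat (g₅ : G3)).trace ^ p ≠ (mat (g₅ : G3)).trace := by
      rw [(hfive g₅ hg5 hr5).2.2 h23]
      exact trace_five h5F (hP.det_eq_one g₅.2) (congrArg Subtype.val hg5) (fun e => hg51 (Subtype.ext e)) hr5
    rcases (show m = 1 ∨ m = 2 by omega) with e | e
    · exact absurd (hcardp e _) hne
    · exact Or.inr ⟨by rw [hm, e], hp3, Or.inl ⟨h23, g₅, g₅.2, by rw [hr5]; exact Ne.symm hne⟩⟩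
  push Not at h23
  have hrat : ∀ x : P, (x ^ 4 = 1 ∨ x ^ 5 = 1) → (mat (x : G3)⁻¹).trace = (mat (x : G3)).trace →
      (mat (x : G3)).trace ^ p = (mat (x : G3)).trace := fun x ho hr =>
    ho.elim (fun h => hfour x h hr) (fun h => (hfive x h hr).1 h23)
  rcases (show p % 3 = 1 ∨ p % 3 = 2 by omega) with h3 | h3
  · left
    obtain ⟨m', h1, h1', hm'⟩ := card_of_traces hP hmin hp one_pos fun g hg => by
      rw [pow_one]
      rcases hcases ⟨g, hg⟩ with ⟨h, -⟩ | ⟨g', μ, hm3, ho, hr, ht, -⟩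
      · rw [show (mat g).trace = 0 from h, zero_pow (Fact.out : p.Prime).ne_zero]
      · rw [show (mat g).trace = _ from ht, mul_pow, (hμ μ hm3).1 h3, hrat g' ho hr]
    refine ⟨by rw [hm', show m' = 1 by omega, pow_one], ?_⟩
    have h5 : p % 5 ≠ 0 := fun e => by have := hp5z e; omega
    omega
  · refine Or.inr ⟨?_, hp3, Or.inr ⟨?_, fun g hg => ?_⟩⟩
    · rcases (show m = 1 ∨ m = 2 by omega) with e | e
      · exfalso
        apply hω1
        have h1 := (hμ ω hω).2.1 h3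
        rw [hcardp e] at h1
        have hω0 : ω ≠ 0 := fun e => by simp [e] at hω
        have h2' : ω * ω = 1 := by
          nth_rewrite 2 [h1]
          exact mul_inv_cancel₀ hω0
        rwa [pow_succ, pow_two, h2', one_mul] at hω
      · rw [hm, e]
    · by_cases h5 : p % 5 = 0
      · exact Or.inr (Or.inr (hp5z h5))
      · omega
    · rcases hcases ⟨g, hg⟩ with ⟨h, h'⟩ | ⟨g', μ, hm3, ho, hr, ht, ht'⟩
      · rw [show (mat g⁻¹).trace = 0 from h', show (mat g).trace = 0 from h, zero_pow (Fact.out : p.Prime).ne_zero]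
      · rw [show (mat g⁻¹).trace = _ from ht', show (mat g).trace = _ from ht, mul_pow, (hμ μ hm3).2.1 h3,
          hrat g' ho hr]

end Cfsg.Agent.ResidualThree.Small
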