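import Cfsg.Agent.ResidualThree.Basic
import Mathlib.LinearAlgebra.Matrix.Charpoly.FiniteField

/-!
Traces of elements of small order of determinant one in dimension three.
-/

set_option autoImplicit false

namespace Cfsg.Agent.ResidualThree.Small

open Matrix Cfsg.Geo Cfsg.Agent.PrimeDim Cfsg.Agent.ResidualThree
open scoped MatrixGroups

variable {F : Type*} [Field F]

local notation "G3" => GL (Fin 3) F
local notation "M3" => Matrix (Fin 3) (Fin 3) F

theorem trace_adjugate (A : M3) : (A * A).trace = A.trace ^ 2 - 2 * A.adjugate.trace := by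
  rw [Matrix.adjugate_fin_three]
  simp [Matrix.trace_fin_three, Matrix.mul_apply, Fin.sum_univ_three]
  ring

theorem cubic (A : M3) : A * (A * A) = A.trace • (A * A) - A.adjugate.trace • A + A.det • (1 : M3) := by
  rw [Matrix.adjugate_fin_three, Matrix.det_fin_three]
  ext i j
  fin_cases i <;> fin_cases j <;> simp [Matrix.trace_fin_three, Matrix.mul_apply, Fin.sum_univ_three] <;> ring

theorem adjugate_eq_inv {g : G3} (hd : (mat g).det = 1) : (mat g).adjugate = mat g⁻¹ := by
  calc (mat g).adjugate = (mat g).adjugate * (mat g * mat g⁻¹) := by rw [mat_mul_inv, mul_one]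
    _ = mat g⁻¹ := by rw [← mul_assoc, Matrix.adjugate_mul, hd, one_smul, one_mul]

theorem trace_sq {g : G3} (hd : (mat g).det = 1) :
    (mat (g * g)).trace = (mat g).trace ^ 2 - 2 * (mat g⁻¹).trace := by
  rw [mat_mul, trace_adjugate, adjugate_eq_inv hd]

theorem cayley {g : G3} (hd : (mat g).det = 1) :
    mat g * (mat g * mat g) = (mat g).trace • (mat g * mat g) - (mat g⁻¹).trace • mat g + 1 := by
  rw [cubic, adjugate_eq_inv hd, hd, one_smul]

theorem trace_one : (mat (1 : G3)).trace = 3 := by
  simp [mat]

theorem mat_inj {g h : G3} (e : mat g = mat h) : g = h := Units.ext e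

/-- An involution has trace minus one. -/
theorem trace_two (h2 : (2 : F) ≠ 0) {g : G3} (hd : (mat g).det = 1) (hg : g * g = 1) (hg1 : g ≠ 1) :
    (mat g).trace = -1 := by
  have hi : g⁻¹ = g := inv_eq_of_mul_eq_one_right hg
  have h1 := trace_sq hd
  rw [hg, trace_one, hi] at h1
  have h2' : ((mat g).trace - 3) * ((mat g).trace + 1) = 0 := by linear_combination -h1
  rcases mul_eq_zero.1 h2' with e | e
  · exfalso
    apply hg1
    have hc := cayley hd
    rw [hi, sub_eq_zero.1 e, ← mat_mul, hg, show mat (1 : G3) = 1 from Units.val_one, mul_one] at hc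
    have h4 : (4 : F) • (mat g - 1) = 0 := by
      have h5 : (4 : F) • (mat g - 1) = (4 : F) • mat g - (4 : F) • (1 : M3) := smul_sub _ _ _
      rw [h5]
      linear_combination (norm := module) hc
    have h40 : (4 : F) ≠ 0 := by
      rw [show (4 : F) = 2 * 2 by norm_num]; exact mul_ne_zero h2 h2
    exact mat_inj ((sub_eq_zero.1 ((smul_eq_zero.1 h4).resolve_left h40)).trans Units.val_one.symm)
  · linear_combination e

/-- A real element of order three has trace zero. -/
theorem trace_three {g : G3} (hd : (mat g).det = 1) (hg : g ^ 3 = 1) (hg1 : g ≠ 1)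
    (hr : (mat g⁻¹).trace = (mat g).trace) : (mat g).trace = 0 := by
  have hi : g⁻¹ = g * g := inv_eq_of_mul_eq_one_right (by rw [← hg, pow_succ', pow_two])
  have h1 := trace_sq hd
  rw [← hi, hr] at h1
  have h2' : (mat g).trace * ((mat g).trace - 3) = 0 := by linear_combination -h1
  rcases mul_eq_zero.1 h2' with e | e
  · exact e
  have h3 : (mat g).trace = 3 := sub_eq_zero.1 e
  by_cases h30 : (3 : F) = 0
  · rw [h3, h30]
  exfalso
  apply hg1
  have hc := cayley hd
  rw [hr, h3, show mat g * (mat g * mat g) = 1 by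
    rw [← mat_mul, ← mat_mul, ← hi, mul_inv_cancel]; exact Units.val_one] at hc
  have h4 : (3 : F) • (mat g * (mat g - 1)) = 0 := by
    rw [mul_sub, mul_one, smul_sub]
    linear_combination (norm := module) -hc
  have h5 : mat g⁻¹ * (mat g * (mat g - 1)) = 0 := by
    rw [(smul_eq_zero.1 h4).resolve_left h30, mul_zero]
  rw [← mul_assoc, mat_inv_mul, one_mul, sub_eq_zero] at h5
  exact mat_inj (h5.trans Units.val_one.symm)

/-- A real element of order four has trace one. -/
theorem trace_four (h2 : (2 : F) ≠ 0) {g : G3} (hd : (mat g).det = 1) (hg : g ^ 4 = 1) (hg2 : g * g ≠ 1)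
    (hr : (mat g⁻¹).trace = (mat g).trace) : (mat g).trace = 1 := by
  have hd2 : (mat (g * g)).det = 1 := by rw [mat_mul, Matrix.det_mul, hd, mul_one]
  have h1 := trace_sq hd
  rw [trace_two h2 hd2 (by rw [← hg, pow_succ, pow_succ, pow_succ, pow_one]; group) hg2, hr] at h1
  have : ((mat g).trace - 1) ^ 2 = 0 := by linear_combination -h1
  exact sub_eq_zero.1 ((pow_eq_zero_iff two_ne_zero).1 this)

/-- A real element of order five is not trace-equal to its square. -/
theorem trace_five (h5 : (5 : F) ≠ 0) {g : G3} (hd : (mat g).det = 1) (hg : g ^ 5 = 1) (hg1 : g ≠ 1)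
    (hr : (mat g⁻¹).trace = (mat g).trace) : (mat (g * g)).trace ≠ (mat g).trace := by
  intro he
  have h1 := trace_sq hd
  rw [he, hr] at h1
  have h2' : (mat g).trace * ((mat g).trace - 3) = 0 := by linear_combination -h1
  have hc := cayley hd
  rw [hr] at hc
  rcases mul_eq_zero.1 h2' with e | e
  · rw [e, zero_smul, zero_smul, sub_zero, zero_add, ← mat_mul, ← mat_mul] at hc
    have h3 : g * (g * g) = 1 := mat_inj (hc.trans Units.val_one.symm)
    apply hg1
    have h2g : g ^ 2 = 1 := by
      rw [show (5 : ℕ) = 2 + 3 from rfl, pow_add, pow_succ' g 2, pow_two, h3, mul_one] at hg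
      rw [pow_two]; exact hg
    rwa [← pow_two, h2g, mul_one] at h3
  · rw [sub_eq_zero.1 e] at hc
    set N : M3 := mat g - 1 with hN
    have hN3 : N * (N * N) = 0 := by
      rw [hN]
      simp only [mul_sub, sub_mul, mul_one, one_mul]
      linear_combination (norm := module) hc
    have hg5 : (1 + N) * ((1 + N) * ((1 + N) * ((1 + N) * (1 + N)))) = 1 := by
      rw [hN, add_sub_cancel, ← mat_mul, ← mat_mul, ← mat_mul, ← mat_mul,
        show g * (g * (g * (g * g))) = g ^ 5 by simp [pow_succ, mul_assoc], hg]
      exact Units.val_one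
    have hlin : (5 : F) • N + (10 : F) • (N * N) = 0 := by
      have hN4 : N * (N * (N * N)) = 0 := by rw [hN3, mul_zero]
      have hN5 : N * (N * (N * (N * N))) = 0 := by rw [hN4, mul_zero]
      simp only [mul_add, add_mul, mul_one, one_mul, hN3, hN4, hN5, mul_zero, add_zero, zero_add] at hg5
      linear_combination (norm := module) hg5
    have hNN : N * N = 0 := by
      have h3 := congrArg (N * ·) hlin
      simp only [mul_add, Matrix.mul_smul, mul_zero, hN3, smul_zero, add_zero] at h3
      exact (smul_eq_zero.1 h3).resolve_left h5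
    rw [hNN, smul_zero, add_zero] at hlin
    exact hg1 (mat_inj ((sub_eq_zero.1 ((smul_eq_zero.1 hlin).resolve_left h5)).trans Units.val_one.symm))

/-- An element conjugate to its square but not real has trace a root of a fixed quadratic. -/
theorem trace_seven (g : G3) (hd : (mat g).det = 1) (hs : (mat (g * g)).trace = (mat g).trace)
    (hs' : (mat (g⁻¹ * g⁻¹)).trace = (mat g⁻¹).trace) (hne : (mat g⁻¹).trace ≠ (mat g).trace) :
    (mat g).trace + (mat g⁻¹).trace = -1 ∧ (mat g).trace ^ 2 + (mat g).trace + 2 = 0 := by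
  have hd' : (mat g⁻¹).det = 1 := by
    have := congrArg Matrix.det (mat_inv_mul g)
    rwa [Matrix.det_mul, hd, mul_one, Matrix.det_one] at this
  have h1 := trace_sq hd
  have h2 := trace_sq hd'
  rw [hs] at h1
  rw [hs', inv_inv] at h2
  have h3 : ((mat g).trace - (mat g⁻¹).trace) * ((mat g).trace + (mat g⁻¹).trace + 1) = 0 := by
    linear_combination h2 - h1
  have h4 := (mul_eq_zero.1 h3).resolve_left (sub_ne_zero.2 (Ne.symm hne))
  exact ⟨by linear_combination h4, by linear_combination -h1 + 2 * h4⟩

open Polynomial in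
/-- The trace of a characteristic power is the power of the trace. -/
theorem trace_pow_char (p : ℕ) [Fact p.Prime] [CharP F p] (M : M3) : (M ^ p).trace = M.trace ^ p := by
  haveI : ExpChar F p := ExpChar.prime Fact.out
  have key : (M ^ p).charpoly = M.charpoly.map (frobenius F p) := by
    apply Polynomial.expand_injective (Fact.out : p.Prime).pos
    rw [← Polynomial.map_expand, Polynomial.map_frobenius_expand]
    unfold Matrix.charpoly
    rw [AlgHom.map_det, ← Matrix.det_pow]
    apply congr_arg det
    refine matPolyEquiv.injective ?_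
    rw [map_pow, matPolyEquiv_charmatrix, sub_pow_char_of_commute, ← C_pow]
    · exact (id (matPolyEquiv_eq_X_pow_sub_C p M) :)
    · exact (C M).commute_X
  rw [Matrix.trace_eq_neg_charpoly_coeff, Matrix.trace_eq_neg_charpoly_coeff, key, Polynomial.coeff_map,
    frobenius_def, Fintype.card_fin]
  rw [← frobenius_def, ← frobenius_def, map_neg]

end Cfsg.Agent.ResidualThree.Small
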