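import Cfsg.Agent.ResidualThree.Small.Cubic
import Cfsg.Agent.ResidualThree.Realise
import Cfsg.Agent.ResidualThree.Lift.SL2
import Mathlib.LinearAlgebra.Trace

/-!
The traces generate the field; forms from the Frobenius action on traces.
-/

set_option autoImplicit false

namespace Cfsg.Agent.ResidualThree.Small

open Matrix Cfsg.Geo Cfsg.Agent.PrimeDim Cfsg.Agent.ResidualThree
open scoped MatrixGroups

variable {F : Type*} [Field F] [Finite F] {P : Subgroup (GL (Fin 3) F)} {p : ℕ} [Fact p.Prime] [CharP F p]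

local notation "G3" => GL (Fin 3) F
local notation "M3" => Matrix (Fin 3) (Fin 3) F

omit [Finite F] in
/-- An idempotent of trace one has rank one. -/
theorem exists_rankOne (hp : p ≠ 2) {E : M3} (hE : E * E = E) (ht : E.trace = 1) :
    ∃ a α : Fin 3 → F, a ≠ 0 ∧ α ≠ 0 ∧ E = vecMulVec a α := by
  have hp3 : 3 ≤ p := by have := (Fact.out : p.Prime).two_le; omega
  set L := Matrix.toLin' E with hL
  have hproj : LinearMap.IsProj (LinearMap.range L) L := ⟨fun x => LinearMap.mem_range_self L x, by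
    rintro _ ⟨x, rfl⟩
    rw [hL, Matrix.toLin'_apply, Matrix.toLin'_apply, Matrix.mulVec_mulVec, hE]⟩
  have h1 : (Module.finrank F (LinearMap.range L) : F) = 1 := by
    rw [← hproj.trace, LinearMap.trace_eq_matrix_trace F (Pi.basisFun F (Fin 3)), ← ht, hL]
    simp [LinearMap.toMatrix_eq_toMatrix']
  have hle : Module.finrank F (LinearMap.range L) ≤ 3 := by
    have := Submodule.finrank_le (LinearMap.range L)
    rwa [Module.finrank_fintype_fun_eq_card, Fintype.card_fin] at this
  have h1' : Module.finrank F (LinearMap.range L) = 1 := by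
    generalize Module.finrank F (LinearMap.range L) = d at h1 hle
    have hmod : d % p = 1 % p := (CharP.natCast_eq_natCast F p).1 (by rw [h1, Nat.cast_one])
    rw [Nat.mod_eq_of_lt (show 1 < p by omega)] at hmod
    rcases Nat.lt_or_ge d p with h | h
    · rwa [Nat.mod_eq_of_lt h] at hmod
    · have : p = 3 ∧ d = 3 := by omega
      obtain ⟨rfl, rfl⟩ := this
      omega
  obtain ⟨v, hv0, hv⟩ := finrank_eq_one_iff'.1 h1'
  have hrep : ∀ j, ∃ c : F, E *ᵥ Pi.single j 1 = c • (v : Fin 3 → F) := fun j => by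
    obtain ⟨c, hc⟩ := hv ⟨L (Pi.single j 1), LinearMap.mem_range_self L _⟩
    exact ⟨c, by rw [← Matrix.toLin'_apply]; exact (congrArg Subtype.val hc).symm⟩
  choose α hα using hrep
  have he : E = vecMulVec (v : Fin 3 → F) α := by
    ext i j
    have := congrFun (hα j) i
    rw [Matrix.mulVec_single_one, Matrix.col_apply, Pi.smul_apply, smul_eq_mul] at this
    rw [this, vecMulVec_apply, mul_comm]
  refine ⟨v, α, fun e => hv0 (Subtype.ext e), fun e => ?_, he⟩
  rw [he, e, vecMulVec_zero, Matrix.trace_zero] at ht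
  exact zero_ne_one ht

/-- The traces generate the field. -/
theorem trace_field (hP : Core P) (hmin : ∀ F₀ : Subfield F, F₀ ≠ ⊤ → ¬ RealisableOver F₀ (matrixSet P))
    (hp : p ≠ 2) (F₀ : Subfield F) (htr : ∀ g ∈ P, (mat g).trace ∈ F₀) : F₀ = ⊤ := by
  haveI : Finite P := Finite.of_injective (fun g : P => mat (g : G3)) fun a b e => Subtype.ext (Units.ext e)
  obtain ⟨⟨t, ht⟩, hto⟩ := hP.exists_involution
  rw [← Subgroup.orderOf_coe] at hto
  have ht2 : t * t = 1 := by rw [← pow_two, ← hto, pow_orderOf_eq_one]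
  have ht1 : t ≠ 1 := fun e => by simp [e] at hto
  have h2 : (2 : F) ≠ 0 := Ring.two_ne_zero (by rw [ringChar.eq F p]; exact hp)
  have htt := trace_two h2 (hP.det_eq_one ht) ht2 ht1
  set E : M3 := (2 : F)⁻¹ • (1 + mat t) with hEdef
  have hE : E * E = E := by
    have e : mat t * mat t = 1 := by rw [← mat_mul, ht2]; exact Units.val_one
    rw [hEdef, Matrix.smul_mul, Matrix.mul_smul, smul_smul, add_mul, mul_add, mul_add, one_mul, mul_one, one_mul,
      e, show (1 : M3) + mat t + (mat t + 1) = (2 : F) • (1 + mat t) by module, smul_smul]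
    congr 1
    field_simp
  have hEt : E.trace = 1 := by
    rw [hEdef, Matrix.trace_smul, Matrix.trace_add, htt, Matrix.trace_one, Fintype.card_fin, smul_eq_mul]
    rw [show ((3 : ℕ) : F) + -1 = 2 by norm_num, inv_mul_cancel₀ h2]
  obtain ⟨a, α, ha, hα, he⟩ := exists_rankOne hp hE hEt
  by_contra hne
  refine hmin F₀ hne (realisable_of_rankOne hP.irr F₀ ha hα fun g hg => ?_)
  rw [← he, hEdef, Matrix.smul_mul, Matrix.trace_smul, add_mul, one_mul, Matrix.trace_add, ← mat_mul, smul_eq_mul]
  exact mul_mem (inv_mem (by simpa using add_mem (one_mem F₀) (one_mem F₀) |> fun h => (by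
    rw [show (2 : F) = 1 + 1 by norm_num]; exact h))) (add_mem (htr g hg) (htr _ (mul_mem ht hg)))

omit [Finite F] in
/-- The elements fixed by a power of Frobenius. -/
def powField (p : ℕ) [Fact p.Prime] [CharP F p] (k : ℕ) : Subfield F :=
  haveI : ExpChar F p := ExpChar.prime Fact.out
  RingHom.eqLocusField (iterateFrobenius F p k) (RingHom.id F)

omit [Finite F] in
theorem mem_powField {k : ℕ} {x : F} : x ∈ powField p k ↔ x ^ p ^ k = x := by
  haveI : ExpChar F p := ExpChar.prime Fact.out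
  show iterateFrobenius F p k x = x ↔ _
  rw [iterateFrobenius_def]

/-- Traces fixed by a power of Frobenius bound the field. -/
theorem card_of_traces (hP : Core P) (hmin : ∀ F₀ : Subfield F, F₀ ≠ ⊤ → ¬ RealisableOver F₀ (matrixSet P))
    (hp : p ≠ 2) {k : ℕ} (hk : 0 < k) (htr : ∀ g ∈ P, (mat g).trace ^ p ^ k = (mat g).trace) :
    ∃ m : ℕ, 1 ≤ m ∧ m ≤ k ∧ Nat.card F = p ^ m := by
  haveI : Fintype F := Fintype.ofFinite F
  have htop := trace_field hP hmin hp (powField p k) fun g hg => mem_powField.2 (htr g hg)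
  have hall : ∀ x : F, x ^ p ^ k = x := fun x => mem_powField.1 (htop ▸ Subfield.mem_top x)
  obtain ⟨m, -, hm⟩ := FiniteField.card F p
  refine ⟨m, m.pos, ?_, by rw [Nat.card_eq_fintype_card, hm]⟩
  have hp1 := (Fact.out : p.Prime).one_lt
  have hpk : 2 ≤ p ^ k := le_trans hp1 (Nat.le_self_pow hk.ne' p)
  have hd : Fintype.card F - 1 ∣ p ^ k - 1 := (FiniteField.forall_pow_eq_one_iff F _).1 fun x => by
    refine Units.ext (mul_right_cancel₀ x.ne_zero ?_)
    rw [Units.val_pow_eq_pow_val, ← pow_succ, Nat.sub_add_cancel (by omega), Units.val_one, one_mul, hall]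
  have hle := Nat.le_of_dvd (by omega) hd
  rw [hm] at hle
  by_contra hlt
  have := Nat.pow_lt_pow_right hp1 (not_le.1 hlt)
  omega

omit [Finite F] in
/-- Real traces give an invariant symmetric form. -/
theorem orth_of_real (hP : Core P) (h : ∀ g ∈ P, (mat g⁻¹).trace = (mat g).trace) :
    ∃ G : M3, G.det ≠ 0 ∧ Gᵀ = G ∧ Fixes (RingEquiv.refl F) P G := by
  obtain ⟨G, hG, hfix⟩ := exists_fixes_of_trace hP.abs (RingEquiv.refl F) h
  exact ⟨G, hG, exists_symmetric (by decide) hP.abs hG hfix, hfix⟩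

/-- Traces twisted by Frobenius give an invariant hermitian form. -/
theorem herm_of_twisted (hP : Core P) (hcard : Nat.card F = p ^ 2)
    (h : ∀ g ∈ P, (mat g⁻¹).trace = (mat g).trace ^ p) :
    ∃ (σ : F ≃+* F) (G : M3), (∀ a, σ (σ a) = a) ∧ σ ≠ RingEquiv.refl F ∧ G.det ≠ 0 ∧ Gᵀ = G.map σ ∧
      Fixes σ P G := by
  haveI : Fintype F := Fintype.ofFinite F
  haveI : ExpChar F p := ExpChar.prime Fact.out
  have hF : Fintype.card F = p ^ 2 := by rw [← Nat.card_eq_fintype_card, hcard]
  let σ : F ≃+* F := RingEquiv.ofBijective (frobenius F p)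
    (Finite.injective_iff_bijective.1 (frobenius F p).injective)
  have hσ : ∀ x, σ x = x ^ p := fun x => frobenius_def ..
  have hσσ : ∀ x, σ (σ x) = x := fun x => by rw [hσ, hσ, ← pow_mul, ← pow_two, ← hF, FiniteField.pow_card]
  have hne : σ ≠ RingEquiv.refl F := by
    intro e
    have hp1 := (Fact.out : p.Prime).one_lt
    have hd : Fintype.card F - 1 ∣ p - 1 := (FiniteField.forall_pow_eq_one_iff F _).1 fun x => by
      refine Units.ext (mul_right_cancel₀ x.ne_zero ?_)
      rw [Units.val_pow_eq_pow_val, ← pow_succ, Nat.sub_add_cancel hp1.le, Units.val_one, one_mul, ← hσ, e]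
      rfl
    have hle := Nat.le_of_dvd (by omega) hd
    rw [hF] at hle
    have : p < p ^ 2 := by rw [pow_two]; exact lt_mul_of_one_lt_left (by omega) hp1
    omega
  obtain ⟨G, hG, hfix⟩ := exists_fixes_of_trace hP.abs σ fun g hg => by rw [hσ]; exact h g hg
  obtain ⟨G', hG', hs, hfix'⟩ := exists_hermitian hP.abs hσσ hne hG hfix
  exact ⟨σ, G', hσσ, hne, hG', hs, hfix'⟩

end Cfsg.Agent.ResidualThree.Small
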